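import Groth.Agent.Vancyc.H680.ModelAlg

/-!
# The points of the split models given by their ideals

`eq_odd`: the point of `modelOdd R m b` with ideal `originQuot` is `x0`; `eq_even`: a point of `modelEven R m b c` over the side
ideal is `x0` when `b ∈ 𝔪` and either `b = 0, c ∈ 𝔪` or `2 ∈ 𝔪`.
-/

set_option autoImplicit false
universe u
open CategoryTheory CategoryTheory.Limits AlgebraicGeometry MvPolynomial

namespace Groth.Agent.Vancyc.H727.PtModel

open Groth.Agent Groth.Agent.Vancyc.H680.HypSmooth Groth.Agent.Vancyc.H680.HypPoint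
open Groth.Agent.Vancyc.H680.ModelAlg Groth.Agent.Vancyc.H694.StdT

variable {R : Type u} [CommRing R] [IsDomain R] [IsDiscreteValuationRing R] (m : ℕ)

theorem eq_odd (b : R) (hb0 : b ≠ 0) (hb : b ∈ IsLocalRing.maximalIdeal R)
    (y : Spec (CommRingCat.of (VanCyc.quadRing R (stdT R m) b)))
    (hy : PrimeSpectrum.asIdeal y = VanCyc.originQuot R (stdT R m) b) :
    y = x0 (FO m b) (fun _ => 0) (ev_FO m b hb) := by
  have hX (j : Fin (2 * m)) : Ideal.Quotient.mk (Ideal.span {FO m b}) (X j) ∈ PrimeSpectrum.asIdeal y := by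
    rw [hy]
    exact Ideal.mem_map_of_mem _ (Ideal.mem_sup_right (Ideal.subset_span ⟨j, rfl⟩))
  have hbm : algebraMap R (MvPolynomial (Fin (2 * m)) R ⧸ Ideal.span {FO m b}) b ∈
      PrimeSpectrum.asIdeal y := by
    rw [hy]
    exact Ideal.mem_map_of_mem _ (Ideal.mem_sup_left (Ideal.mem_map_of_mem _ hb))
  have hstr := str_eq_closedPoint y b hb0 hbm
  refine eq_x0 _ _ _ y hstr fun L _ χ ℓ h1 h2 i => ?_
  rw [h2 _ (hX i), map_zero]

theorem eq_even (b c : R) (hb : b ∈ IsLocalRing.maximalIdeal R) (hΔ0 : b ^ 2 - 4 * c ≠ 0)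
    (h2c : (b = 0 ∧ c ∈ IsLocalRing.maximalIdeal R ∧ IsUnit (2 : R)) ∨ (2 : R) ∈ IsLocalRing.maximalIdeal R)
    (y : Spec (CommRingCat.of (VanCyc.degQuadRing R (stdT R m) b c)))
    (hy : VanCyc.sideIdeal R (stdT R m) b c ≤ PrimeSpectrum.asIdeal y) :
    b ^ 2 - 4 * c ∈ IsLocalRing.maximalIdeal R ∧
      y = x0 (FE m b c) (coords m (root b c)) (ev_FE m b c) := by
  have hprime : (PrimeSpectrum.asIdeal y).IsPrime := PrimeSpectrum.isPrime y
  have hΔ : b ^ 2 - 4 * c ∈ IsLocalRing.maximalIdeal R := by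
    refine sub_mem (Ideal.pow_mem_of_mem _ hb 2 (by norm_num)) ?_
    rcases h2c with ⟨-, hc, -⟩ | h2
    · exact Ideal.mul_mem_left _ _ hc
    · have h4 : (4 : R) * c = 2 * (2 * c) := by ring
      rw [h4]
      exact Ideal.mul_mem_right _ _ h2
  refine ⟨hΔ, ?_⟩
  have hX (j : Fin (2 * m)) : Ideal.Quotient.mk (Ideal.span {FE m b c}) (X j.succ) ∈
      PrimeSpectrum.asIdeal y :=
    hy (Ideal.mem_map_of_mem _ (Ideal.mem_sup_right (Ideal.subset_span ⟨j, rfl⟩)))
  have hm (r : R) (hr : r ∈ IsLocalRing.maximalIdeal R) :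
      Ideal.Quotient.mk (Ideal.span {FE m b c}) (C r) ∈ PrimeSpectrum.asIdeal y :=
    hy (Ideal.mem_map_of_mem _ (Ideal.mem_sup_left (Ideal.mem_map_of_mem _ hr)))
  have hF : Ideal.Quotient.mk (Ideal.span {FE m b c}) (X 0) ^ 2 +
      Ideal.Quotient.mk (Ideal.span {FE m b c}) (C b) * Ideal.Quotient.mk (Ideal.span {FE m b c}) (X 0) +
      Ideal.Quotient.mk (Ideal.span {FE m b c}) (C c) ∈ PrimeSpectrum.asIdeal y := by
    have h2 : Ideal.Quotient.mk (Ideal.span {FE m b c}) (FE m b c) = 0 :=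
      Ideal.Quotient.eq_zero_iff_mem.2 (Ideal.mem_span_singleton_self _)
    have h3 : Ideal.Quotient.mk (Ideal.span {FE m b c}) (X 0) ^ 2 +
      Ideal.Quotient.mk (Ideal.span {FE m b c}) (C b) * Ideal.Quotient.mk (Ideal.span {FE m b c}) (X 0) +
      Ideal.Quotient.mk (Ideal.span {FE m b c}) (C c) = - ∑ i : Fin m,
        Ideal.Quotient.mk (Ideal.span {FE m b c}) (X (lo m i).succ) *
          Ideal.Quotient.mk (Ideal.span {FE m b c}) (X (hi m i).succ) := by
      rw [eq_neg_iff_add_eq_zero, ← h2, FE, VanCyc.degQuadPoly, quadPoly_stdT]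
      simp only [map_add, map_sum, map_mul, map_pow, rename_X]
    rw [h3]
    exact neg_mem (sum_mem fun i _ => Ideal.mul_mem_right _ _ (hX _))
  have h0 : Ideal.Quotient.mk (Ideal.span {FE m b c}) (2 * X 0 + C b) ∈ PrimeSpectrum.asIdeal y := by
    rw [map_add, map_mul]
    refine add_mem ?_ (hm b hb)
    rcases h2c with ⟨-, hc, -⟩ | h2
    · refine Ideal.mul_mem_left _ _ (hprime.mem_of_pow_mem 2 ?_)
      have h5 := sub_mem (sub_mem hF (hm c hc)) (Ideal.mul_mem_right
        (Ideal.Quotient.mk (Ideal.span {FE m b c}) (X 0)) _ (hm b hb))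
      refine (congrArg (· ∈ PrimeSpectrum.asIdeal y) ?_).mp h5
      ring
    · refine Ideal.mul_mem_right _ _ ?_
      have h6 := hm 2 h2
      rwa [show (C (2 : R) : MvPolynomial (Fin (2 * m + 1)) R) = 2 from map_ofNat C 2] at h6
  have hstr := str_eq_closedPoint y _ hΔ0 (hm _ hΔ)
  refine eq_x0 _ _ _ y hstr fun L _ χ ℓ h1 h2 i => ?_
  refine Fin.cases ?_ (fun j => ?_) i
  · have e1 := h2 _ h0
    have e2 := h2 _ hF
    have e3 := congrArg ℓ (root_spec (R := R) b c)
    have e4 := congrArg ℓ (two_root (R := R) b c hΔ)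
    have eb : χ (Ideal.Quotient.mk (Ideal.span {FE m b c}) (C b)) = ℓ (toKK R b) := RingHom.congr_fun h1 b
    have ec : χ (Ideal.Quotient.mk (Ideal.span {FE m b c}) (C c)) = ℓ (toKK R c) := RingHom.congr_fun h1 c
    rw [map_add, map_mul, map_add, map_mul, map_ofNat, map_ofNat, eb] at e1
    rw [map_add, map_add, map_pow, map_mul, eb, ec] at e2
    rw [map_add, map_add, map_pow, map_mul, map_zero] at e3
    rw [map_add, map_mul, map_ofNat, map_zero] at e4
    change _ = ℓ (root b c)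
    have key : (χ (Ideal.Quotient.mk (Ideal.span {FE m b c}) (X 0)) - ℓ (root b c)) ^ 2 = 0 := by
      linear_combination (-1) * e2 + (χ (Ideal.Quotient.mk (Ideal.span {FE m b c}) (X 0)) -
        ℓ (root b c)) * e1 + e3
    exact sub_eq_zero.1 (pow_eq_zero_iff (two_ne_zero) |>.1 key)
  · rw [h2 _ (hX j)]
    exact (map_zero ℓ).symm

end Groth.Agent.Vancyc.H727.PtModel
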