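import Groth.Agent.Vancyc.H694.StdT

/-!
# The cohomology of the geometric generic fibres of the split models: statements
-/

set_option autoImplicit false
universe u
open CategoryTheory CategoryTheory.Limits AlgebraicGeometry Opposite

namespace Groth.Agent.Vancyc.H727.SphereDef

open Groth.Agent.Vancyc.H694.StdT

/-- A scheme with the cohomology of a sphere of dimension `n`, coefficients `ℤ/N`. -/
def IsSphere (P : Scheme.{u}) (N n : ℕ) : Prop :=
  (∀ q : ℕ, q ≠ 0 → q ≠ n → Subsingleton (EtCoh.H P (EtCoh.const P (ZMod N)) q)) ∧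
    Nonempty (EtCoh.H P (EtCoh.const P (ZMod N)) n ≃+ ZMod N) ∧
    Nonempty (EtCoh.H P (EtCoh.const P (ZMod N)) 0 ≃+ ZMod N)

/-- The cohomology of the geometric generic fibre of the odd model. -/
def SphereOdd : Prop := ∀ (R Ω : Type u) [CommRing R] [IsDomain R] [IsDiscreteValuationRing R]
  [HenselianLocalRing R] [IsSepClosed (IsLocalRing.ResidueField R)] [Field Ω] [IsSepClosed Ω] [Algebra R Ω]
  (m : ℕ) (_ : 1 ≤ m) (b : R) (_ : algebraMap R Ω b ≠ 0) (N : ℕ) (_ : IsUnit (N : R)),
  IsSphere (VanCyc.fib R (modelOdd R m b) Ω) N (2 * m - 1)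

/-- The cohomology of the geometric generic fibre of the even model. -/
def SphereEven : Prop := ∀ (R Ω : Type u) [CommRing R] [IsDomain R] [IsDiscreteValuationRing R]
  [HenselianLocalRing R] [IsSepClosed (IsLocalRing.ResidueField R)] [Field Ω] [IsSepClosed Ω] [Algebra R Ω]
  (m : ℕ) (_ : 1 ≤ m) (b c : R) (_ : algebraMap R Ω (b ^ 2 - 4 * c) ≠ 0) (N : ℕ) (_ : IsUnit (N : R)),
  IsSphere (VanCyc.fib R (modelEven R m b c) Ω) N (2 * m)

end Groth.Agent.Vancyc.H727.SphereDef
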