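import Groth.Agent.Vancyc.H694.NFGlue

/-!
# Even relative dimension: the degenerate normal form is needed only in residue characteristic two
-/

set_option autoImplicit false
universe u

open CategoryTheory CategoryTheory.Limits AlgebraicGeometry IsLocalRing VanCyc

namespace Groth.Agent.Vancyc.H727.Two

open Groth.Agent.Vancyc.H694 Groth.Agent.Vancyc.H694.StdT Groth.Agent.Vancyc.H694.Origin
  Groth.Agent.Vancyc.H694.NFHyp Groth.Agent.Vancyc.H694.NFGlue

variable (R K : Type u) [CommRing R] [IsDomain R] [IsDiscreteValuationRing R]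
  (hR : EtCoh.IsStrictlyHenselianLocalRing R) [Field K] [Algebra R K] [IsFractionRing R K]
  {X : Scheme.{u}} (f : X ⟶ Spec (CommRingCat.of R)) [LocallyOfFiniteType f] [Flat f]

include hR in
/-- `NFGlue.common_even` with `NFDeg` used only when `2` is not invertible. -/
theorem common_even' (H8 : NFNondeg.{u}) (HD : (2 : R) ∈ maximalIdeal R → NFDeg.{u}) (m : ℕ) (x : ↥(spFib R f))
    (hxc : IsClosed ({x} : Set ↥(spFib R f)))
    (hq : IsOrdQuadPt (resHom (spStr R f) x) (2 * m))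
    (V : X.Opens) (hxV : (icl R f).base x ∈ V)
    (hV : Smooth (pullback.snd (V.ι ≫ f) (toS R K))) :
    ∃ b c : R, b ∈ maximalIdeal R ∧ b ^ 2 - 4 * c ≠ 0 ∧
      ((b = 0 ∧ c ∈ maximalIdeal R ∧ IsUnit (2 : R)) ∨ (2 : R) ∈ maximalIdeal R) ∧
      ∃ y : Spec (CommRingCat.of (degQuadRing R (stdT R m) b c)),
        (PrimeSpectrum.asIdeal y).IsMaximal ∧
        sideIdeal R (stdT R m) b c ≤ PrimeSpectrum.asIdeal y ∧
        HasCommonEt f (modelEven R m b c) ((icl R f).base x) y := by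
  have hH : HenselianLocalRing R := hR.1
  have hsc : IsSepClosed (ResidueField R) := hR.2
  obtain ⟨B, _, _, P, hP, j, hfp, hjo, hj, hjV, hjx, hmP, hfl, hres, hord⟩ :=
    ChartPt.exists_chart R f x hxc V hxV
  -- it suffices to find the common neighbourhood
  suffices H : ∃ b c : R, b ∈ maximalIdeal R ∧
      ((b = 0 ∧ c ∈ maximalIdeal R ∧ IsUnit (2 : R)) ∨ (2 : R) ∈ maximalIdeal R) ∧
      ∃ y : Spec (CommRingCat.of (degQuadRing R (stdT R m) b c)),
        sideIdeal R (stdT R m) b c ≤ PrimeSpectrum.asIdeal y ∧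
        HasCommonEt f (modelEven R m b c) ((icl R f).base x) y by
    obtain ⟨b, c, hb, h2, y, hy, hce⟩ := H
    have hym : (PrimeSpectrum.asIdeal y).IsMaximal := by
      have := PrimeSpectrum.isPrime y
      exact isMaximal_of_sideIdeal_le _ b c _ hy
    refine ⟨b, c, hb, ?_, h2, y, hym, hy, hce⟩
    intro hdisc
    obtain ⟨U, p, q, z, hp, hq', w, hpz, hqz⟩ := hce
    obtain ⟨W, hzW, hW⟩ := Generic.exists_opens_smooth f (modelEven R m b c) (toS R K) p q w V hV z
      (by rw [hpz]; exact hxV)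
    exact Disc.false_of_disc R K _ b c hdisc W hW _ hzW (by rw [hqz]; exact hy)
  by_cases h2 : IsUnit (2 : R)
  · have h2' : (2 : ResidueField R) ≠ 0 := by
      have := (h2.map (residue R)).ne_zero
      rwa [map_ofNat] at this
    have hnd := OrdNondeg.isNondegQuadPt_of_isOrdQuadPt _ (Or.inl h2') (hord _ hq)
    obtain ⟨a, b, ha, hb, E, i1, i2, i3, i4, i5, P', i6, ψ, h1, h2E, h3⟩ :=
      common_nondeg H8 B P hmP hres _ hnd
    obtain ⟨e, he⟩ := exists_splitEquiv_odd h2 m (rfl : 2 * m + 1 = 2 * m + 1) a ha hb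
    obtain ⟨h4, h5⟩ := comp_equiv ψ h2E e P' _ _ h3 he
    have hc : -b ∈ maximalIdeal R := (maximalIdeal R).neg_mem hb
    have hQ : (origQ (degQuadPoly R (stdT R m) 0 (-b))).IsMaximal :=
      isMaximal_origQ (by rw [constantCoeff_degQuadPoly]; exact hc)
    refine ⟨0, -b, zero_mem _, Or.inl ⟨rfl, hc, h2⟩,
      (⟨origQ (degQuadPoly R (stdT R m) 0 (-b)), hQ.isPrime⟩ :
        PrimeSpectrum (degQuadRing R (stdT R m) 0 (-b))), sideIdeal_le_origQ _ _ _, ?_⟩
    have := hasCommonEt_of_algebra f B j hj ⟨P, hP.isPrime⟩ (degQuadRing R (stdT R m) 0 (-b)) E P'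
      (ψ.comp e.symm.toAlgHom) h1 h4 ⟨origQ (degQuadPoly R (stdT R m) 0 (-b)), hQ.isPrime⟩ h5
    rwa [hjx] at this
  · have h2m : (2 : R) ∈ maximalIdeal R := (mem_maximalIdeal _).2 h2
    have hchar : CharP (ResidueField R) 2 := by
      refine CharTwo.of_one_ne_zero_of_two_eq_zero one_ne_zero ?_
      have := (residue_eq_zero_iff (2 : R)).2 h2m
      rwa [map_ofNat] at this
    have hfl' : Module.Flat R (Localization.AtPrime P) := Module.Flat.trans R B _
    obtain ⟨b, c, hb, E, i1, i2, i3, i4, i5, P', i6, ψ, h1, h2E, h3⟩ :=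
      HD h2m R B P hmP m (hord _ hq)
    refine ⟨b, c, hb, Or.inr h2m,
      (⟨P'.comap ψ.toRingHom, Ideal.IsPrime.comap _⟩ :
        PrimeSpectrum (degQuadRing R (stdT R m) b c)), h3, ?_⟩
    have := hasCommonEt_of_algebra f B j hj ⟨P, hP.isPrime⟩ (degQuadRing R (stdT R m) b c) E P'
      ψ h1 h2E ⟨P'.comap ψ.toRingHom, Ideal.IsPrime.comap _⟩ rfl
    rwa [hjx] at this

end Groth.Agent.Vancyc.H727.Two
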