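import Groth.Agent.Vancyc.H727.SphereDef
import Groth.Agent.Vancyc.H686.QuadMain
import Groth.Agent.Vancyc.H263.PunctStd
import Groth.Agent.Sga4B.PurityMainB

/-!
# The cohomology of the geometric generic fibre of the odd split model
-/

set_option autoImplicit false
universe u
open CategoryTheory CategoryTheory.Limits AlgebraicGeometry Opposite

namespace Groth.Agent.Vancyc.H727.SphereOdd

open Groth.Agent Groth.Agent.Vancyc.H694.StdT Groth.Agent.Vancyc.H727.SphereDef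

theorem sphereOdd : SphereOdd.{u} := by
  intro R Ω _ _ _ _ _ _ _ _ m hm b hb N hN
  obtain ⟨k, rfl⟩ : ∃ k : ℕ, m = k + 1 := ⟨m - 1, by omega⟩
  have hN' := H686.VanFinal.isUnit_spec hN
  have hNΩ : (N : Ω) ≠ 0 := by
    have h := (hN.map (algebraMap R Ω)).ne_zero
    rwa [map_natCast] at h
  have hM : ∀ x : (AddCommGrpCat.of (ULift.{u + 1} (ZMod N)) : Type (u + 1)), N • x = 0 := by
    rintro ⟨x⟩
    apply ULift.ext
    change N • x = 0
    rw [nsmul_eq_mul, ZMod.natCast_self, zero_mul]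
  have key (q : ℕ) : Nonempty (EtCoh.H (VanCyc.fib R (modelOdd R (k + 1) b) Ω)
      (EtCoh.const _ (ZMod N)) q ≃+ EtCoh.H (H686.GeoR.punct (k + 1) Ω : Scheme.{u})
        (EtCoh.const _ (ZMod N)) q) := by
    have ha : VanCyc.QuadNondeg (stdT R (k + 1)) := quadNondeg_stdT R (k + 1)
    obtain ⟨e1⟩ := H686.QuadMain.H_quad (Ω := Ω) (m := k) (stdT R (k + 1)) ha b hb hN'
      (AddCommGrpCat.of (ULift.{u + 1} (ZMod N))) hM q
    exact ⟨(EtpbcB.IsoTransport.HMapIso (EtCore.pullConst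
      (VanCyc.jA R (modelOdd R (k + 1) b) Ω) (ZMod N)) q).symm.trans e1⟩
  obtain ⟨h1, ⟨h2⟩, ⟨h3⟩⟩ := H263.PunctStd.punct_std (Ω := Ω)
    (Sga4B.PurityMainB.stmtLine N) hNΩ (k + 1) (Nat.succ_pos k)
  refine ⟨fun q hq0 hq => ?_, ?_, ?_⟩
  · obtain ⟨e⟩ := key q
    have := h1 q hq0 hq
    exact e.injective.subsingleton
  · obtain ⟨e⟩ := key (2 * (k + 1) - 1)
    exact ⟨e.trans h2⟩
  · obtain ⟨e⟩ := key 0
    exact ⟨e.trans h3⟩

end Groth.Agent.Vancyc.H727.SphereOdd
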